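import Mathlib
import Groth.Prelude
import Groth.Agent.Coherent.ProjSpaceCoh

/-!
# Affine morphisms with free direct image over a scheme without nonconstant functions

If `π : Y ⟶ Spec k` induces a bijection on global functions and `f : F ⟶ Y` is affine with
`f_* O_F` free of finite rank, then `F = Spec Γ(F) ×_k Y`.
-/

set_option autoImplicit false
set_option backward.isDefEq.respectTransparency false
set_option backward.isDefEq.respectTransparency.types false
set_option linter.style.haveILetI false

universe u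

open CategoryTheory CategoryTheory.Limits AlgebraicGeometry Opposite TensorProduct

noncomputable section

namespace Groth.Agent.FinFree14

variable {k : CommRingCat.{u}} {Y F : Scheme.{u}} (π : Y ⟶ Spec k) (f : F ⟶ Y)

/-- The constants on an open of `Y`. -/
def baseMap (U : Y.Opens) : k ⟶ Γ(Y, U) :=
  (Scheme.ΓSpecIso k).inv ≫ π.appTop ≫ Y.presheaf.map (homOfLE (le_top : U ≤ ⊤)).op

/-- The structure map of the global functions of `F`. -/
def globMap : k ⟶ Γ(F, ⊤) := (Scheme.ΓSpecIso k).inv ≫ (f ≫ π).appTop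

/-- Restriction of global functions of `F` to a preimage. -/
def resMap (U : Y.Opens) : Γ(F, ⊤) ⟶ Γ(F, f ⁻¹ᵁ U) :=
  F.presheaf.map (homOfLE (le_top : f ⁻¹ᵁ U ≤ ⊤)).op

theorem globMap_resMap (U : Y.Opens) :
    globMap π f ≫ resMap f U = baseMap π U ≫ f.app U := by
  rw [globMap, baseMap, resMap, Scheme.Hom.comp_appTop, Category.assoc, Category.assoc,
    Category.assoc, Category.assoc, f.naturality]
  rfl

variable {f}

/-- A pushout square of rings from compatible coordinates. -/
theorem isPushout_of_coords {R A B C : CommRingCat.{u}} (a : R ⟶ A) (b : R ⟶ B) (r : A ⟶ C) (s : B ⟶ C)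
    (w : a ≫ r = b ≫ s) {J : Type*} [Fintype J] (v : J → A)
    (h : Function.Bijective fun c : J → R => ∑ j, a.hom (c j) * v j)
    (h' : Function.Bijective fun c : J → B => ∑ j, s.hom (c j) * r.hom (v j)) :
    IsPushout a b r s := by
  classical
  algebraize [a.hom, b.hom]
  letI : Algebra A C := r.hom.toAlgebra
  letI : Algebra B C := s.hom.toAlgebra
  letI : Algebra R C := (s.hom.comp b.hom).toAlgebra
  haveI : IsScalarTower R B C := IsScalarTower.of_algebraMap_eq' rfl
  haveI : IsScalarTower R A C := IsScalarTower.of_algebraMap_eq'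
    (congrArg CommRingCat.Hom.hom w).symm
  haveI : Algebra.IsPushout R B A C := by
    let ev : (J → R) ≃ₗ[R] A := LinearEquiv.ofBijective (Fintype.linearCombination R v) (by
      convert h using 1
      funext c
      simp [Fintype.linearCombination_apply, Algebra.smul_def]
      rfl)
    let ev' : (J → B) ≃ₗ[B] C := LinearEquiv.ofBijective (Fintype.linearCombination B (fun j => r.hom (v j))) (by
      convert h' using 1
      funext c
      simp [Fintype.linearCombination_apply, Algebra.smul_def]
      rfl)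
    let bA : Module.Basis J R A := Module.Basis.ofEquivFun ev.symm
    let bC : Module.Basis J B C := Module.Basis.ofEquivFun ev'.symm
    refine ⟨IsBaseChange.of_equiv ((bA.baseChange B).equiv bC (Equiv.refl J)) ?_⟩
    intro x
    let e := (bA.baseChange B).equiv bC (Equiv.refl J)
    change e ((1 : B) ⊗ₜ[R] x) = (IsScalarTower.toAlgHom R A C).toLinearMap x
    have : (e.toLinearMap.restrictScalars R).comp (TensorProduct.mk R B A 1) =
        (IsScalarTower.toAlgHom R A C).toLinearMap := by
      refine bA.ext fun j => ?_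
      have hA : bA j = v j := by
        simp [bA, ev, Fintype.linearCombination_apply, Pi.single_apply]
      have hC : bC j = r.hom (v j) := by
        simp [bC, ev', Fintype.linearCombination_apply, Pi.single_apply]
      change e ((1 : B) ⊗ₜ[R] bA j) = r.hom (bA j)
      rw [← Module.Basis.baseChange_apply, Module.Basis.equiv_apply, Equiv.refl_apply, hC, hA]
    exact LinearMap.congr_fun this x
  have hp := CommRingCat.isPushout_of_isPushout R B A C
  exact hp.flip

variable {π}

/-- The square over an affine open is cartesian. -/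
theorem isPullback_affine [IsAffineHom f] {U : Y.Opens} (hU : IsAffineOpen U)
    (hpo : IsPushout (globMap π f) (baseMap π U) (resMap f U) (f.app U)) :
    IsPullback ((f ⁻¹ᵁ U).ι ≫ F.toSpecΓ) (f ∣_ U) (Spec.map (globMap π f)) (U.ι ≫ π) := by
  have hV := hU.preimage f
  refine (isPullback_SpecMap_of_isPushout _ _ _ _ hpo).of_iso hV.isoSpec.symm (Iso.refl _)
    hU.isoSpec.symm (Iso.refl _) ?_ ?_ ?_ ?_
  · rw [Iso.refl_hom, Category.comp_id, ← Iso.inv_comp_eq, Iso.symm_inv, IsAffineOpen.isoSpec_hom]
    exact (f ⁻¹ᵁ U).toSpecΓ_SpecMap_presheaf_map_top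
  · rw [Iso.symm_hom, Iso.symm_hom, ← Iso.cancel_iso_hom_left hV.isoSpec, Iso.hom_inv_id_assoc,
      ← cancel_mono U.ι, morphismRestrict_ι, Category.assoc, Category.assoc,
      IsAffineOpen.isoSpec_inv_ι, Scheme.Hom.app_eq_appLE, IsAffineOpen.SpecMap_appLE_fromSpec f hU hV,
      ← IsAffineOpen.isoSpec_inv_ι, Category.assoc, Iso.hom_inv_id_assoc]
  · simp
  · rw [Iso.refl_hom, Category.comp_id, ← Iso.inv_comp_eq, Iso.symm_inv, IsAffineOpen.isoSpec_hom,
      baseMap, Spec.map_comp, Spec.map_comp, Category.assoc, ← Category.assoc U.toSpecΓ,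
      U.toSpecΓ_SpecMap_presheaf_map_top, Category.assoc, ← Scheme.toSpecΓ_naturality_assoc]
    congr 1
    simp

/-- The comparison morphism to `Spec Γ(F) ×_k Y` is an isomorphism. -/
theorem exists_iso [IsAffineHom f]
    (hpo : ∀ U : Y.Opens, IsAffineOpen U →
      IsPushout (globMap π f) (baseMap π U) (resMap f U) (f.app U)) :
    IsIso (pullback.lift (f := Spec.map (globMap π f)) (g := π) F.toSpecΓ f (by
      rw [globMap, Spec.map_comp, ← Category.assoc, ← Scheme.toSpecΓ_naturality, Category.assoc]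
      simp)) := by
  set h := pullback.lift (f := Spec.map (globMap π f)) (g := π) F.toSpecΓ f _
  change MorphismProperty.isomorphisms Scheme h
  rw [IsZariskiLocalAtTarget.iff_of_iSup_eq_top (P := MorphismProperty.isomorphisms Scheme)
    (fun U : Y.affineOpens => (pullback.snd (Spec.map (globMap π f)) π) ⁻¹ᵁ (U : Y.Opens))
    (by rw [← Scheme.Hom.preimage_iSup, iSup_affineOpens_eq_top]; rfl)]
  intro U
  let snd := pullback.snd (Spec.map (globMap π f)) π
  let fst := pullback.fst (Spec.map (globMap π f)) π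
  let V := snd ⁻¹ᵁ (U : Y.Opens)
  have h1 := isPullback_affine U.2 (hpo U U.2)
  have h2 : IsPullback (V.ι ≫ fst) (snd ∣_ U.1) (Spec.map (globMap π f)) (U.1.ι ≫ π) :=
    (isPullback_morphismRestrict snd U.1).flip.paste_horiz (IsPullback.of_hasPullback _ _)
  let e := h1.isoIsPullback _ _ h2
  have he : e.hom ≫ (snd ∣_ U.1) = f ∣_ U.1 := h1.isoIsPullback_hom_snd _ _ h2
  have hsnd : h ≫ snd = f := pullback.lift_snd _ _ _
  have he' : e.hom ≫ V.ι = (f ⁻¹ᵁ U.1).ι ≫ h := by
    apply pullback.hom_ext
    · rw [Category.assoc, Category.assoc, h1.isoIsPullback_hom_fst _ _ h2, pullback.lift_fst]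
    · change _ ≫ snd = _ ≫ snd
      rw [Category.assoc, Category.assoc, hsnd, ← morphismRestrict_ι, reassoc_of% he, morphismRestrict_ι]
  have hout : IsPullback (e.hom ≫ (snd ∣_ U.1)) (f ⁻¹ᵁ U.1).ι U.1.ι (h ≫ snd) := by
    rw [he, hsnd]
    exact isPullback_morphismRestrict f U.1
  have hin : IsPullback e.hom (f ⁻¹ᵁ U.1).ι V.ι h :=
    hout.of_right he' (isPullback_morphismRestrict snd U.1)
  change IsIso (h ∣_ V)
  rw [← (isPullback_morphismRestrict h V).isoIsPullback_hom_fst _ _ hin]
  infer_instance

/-- A module morphism on sections as an additive map, additively in the morphism. -/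
def appHom {X : Scheme.{u}} (M N : X.Modules) (U : X.Opens) : (M ⟶ N) →+ (Γ(M, U) →+ Γ(N, U)) where
  toFun φ := (φ.app U).hom
  map_zero' := rfl
  map_add' _ _ := rfl

variable {J : Type u} [Fintype J]
  (e : (Scheme.Modules.pushforward f).obj (SheafOfModules.unit F.ringCatSheaf) ≅
    ∐ fun _ : J => (SheafOfModules.unit Y.ringCatSheaf : Y.Modules))

/-- The global functions of `F` given by a trivialisation of its direct image. -/
def gen (j : J) : Γ(F, ⊤) :=
  (Scheme.Modules.Hom.app (Sigma.ι (fun _ : J => (SheafOfModules.unit Y.ringCatSheaf : Y.Modules)) j ≫ e.inv) ⊤).hom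
    (1 : Γ(Y, ⊤))

theorem bijective_coords (U : Y.Opens) :
    Function.Bijective fun c : J → Γ(Y, U) => ∑ j, (f.app U).hom (c j) * (resMap f U).hom (gen e j) := by
  classical
  let O : Y.Modules := SheafOfModules.unit Y.ringCatSheaf
  let M : Y.Modules := (Scheme.Modules.pushforward f).obj (SheafOfModules.unit F.ringCatSheaf)
  let p : ∀ j : J, (∐ fun _ : J => O) ⟶ O := fun j => Sigma.desc fun i => if i = j then 𝟙 O else 0
  have hp : ∀ i j : J, Sigma.ι (fun _ : J => O) i ≫ p j = if i = j then 𝟙 O else 0 := fun i j =>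
    Sigma.ι_desc _ _
  have hsum : ∑ j, p j ≫ Sigma.ι (fun _ : J => O) j = 𝟙 _ := by
    apply Sigma.hom_ext
    intro i
    rw [Preadditive.comp_sum, Category.comp_id, Finset.sum_eq_single i]
    · rw [← Category.assoc, hp, if_pos rfl, Category.id_comp]
    · intro j _ hj
      rw [← Category.assoc, hp, if_neg (Ne.symm hj), zero_comp]
    · simp
  let σ : J → (O ⟶ M) := fun j => Sigma.ι (fun _ : J => O) j ≫ e.inv
  let q : J → (M ⟶ O) := fun j => e.hom ≫ p j
  have hσq : ∀ i j : J, σ i ≫ q j = if i = j then 𝟙 O else 0 := fun i j => by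
    simp only [σ, q, Category.assoc, Iso.inv_hom_id_assoc, hp]
  have hqσ : ∑ j, q j ≫ σ j = 𝟙 M := by
    calc ∑ j, q j ≫ σ j = e.hom ≫ (∑ j, p j ≫ Sigma.ι (fun _ : J => O) j) ≫ e.inv := by
          simp [q, σ, Preadditive.comp_sum, Preadditive.sum_comp]
      _ = 𝟙 M := by rw [hsum, Category.id_comp, Iso.hom_inv_id]
  have hσapp : ∀ (j : J) (c : Γ(Y, U)),
      ((Scheme.Modules.Hom.app (σ j) U).hom c : Γ(F, f ⁻¹ᵁ U)) = (f.app U).hom c * (resMap f U).hom (gen e j) := by
    intro j c
    have h1 : (Scheme.Modules.Hom.app (σ j) U).hom (1 : Γ(Y, U)) = (resMap f U).hom (gen e j) := by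
      have h3 := (σ j).mapPresheaf.naturality (homOfLE (le_top : U ≤ ⊤)).op
      have h4 := ConcreteCategory.congr_hom h3 (1 : Γ(Y, ⊤))
      refine Eq.trans (congrArg (Scheme.Modules.Hom.app (σ j) U).hom ?_) h4
      exact (map_one (Y.presheaf.map (homOfLE (le_top : U ≤ ⊤)).op).hom).symm
    have h2 := Scheme.Modules.Hom.app_smul (σ j) (U := U) c (1 : Γ(Y, U))
    rw [show (c • (1 : Γ(Y, U)) : Γ(Y, U)) = c from mul_one c] at h2
    refine Eq.trans h2 ?_
    exact congrArg (fun z : Γ(F, f ⁻¹ᵁ U) => (f.app U).hom c * z) h1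
  have heq : (fun c : J → Γ(Y, U) => ∑ j, (f.app U).hom (c j) * (resMap f U).hom (gen e j)) =
      fun c : J → Γ(Y, U) => ∑ j, appHom O M U (σ j) (c j) := by
    funext c
    exact Finset.sum_congr rfl fun j _ => (hσapp j (c j)).symm
  rw [heq]
  refine Function.bijective_iff_has_inverse.2 ⟨fun x j => appHom M O U (q j) x, fun c => ?_, fun x => ?_⟩
  · funext j
    change appHom M O U (q j) (∑ i, appHom O M U (σ i) (c i)) = c j
    rw [map_sum, Finset.sum_eq_single j]
    · change appHom O O U (σ j ≫ q j) (c j) = c j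
      rw [hσq, if_pos rfl]
      rfl
    · intro i _ hi
      change appHom O O U (σ i ≫ q j) (c i) = 0
      rw [hσq, if_neg hi, map_zero, AddMonoidHom.zero_apply]
    · simp
  · change ∑ j, appHom M M U (q j ≫ σ j) x = x
    rw [← AddMonoidHom.finsetSum_apply, ← map_sum, hqσ]
    rfl

include e in
/-- An affine morphism with free direct image of rank `|J|` is the base change of `Spec Γ(F) ⟶ Spec k`. -/
theorem isIso_lift_of_free [IsAffineHom f] (hπ : IsIso π.appTop) :
    IsIso (pullback.lift (f := Spec.map (globMap π f)) (g := π) F.toSpecΓ f (by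
      rw [globMap, Spec.map_comp, ← Category.assoc, ← Scheme.toSpecΓ_naturality, Category.assoc]
      simp)) := by
  haveI := hπ
  refine exists_iso fun U _ => isPushout_of_coords _ _ _ _ (globMap_resMap π f U) (gen e) ?_
    (bijective_coords e U)
  have hb : Function.Bijective ((Scheme.ΓSpecIso k).inv ≫ π.appTop).hom :=
    ConcreteCategory.bijective_of_isIso ((Scheme.ΓSpecIso k).inv ≫ π.appTop)
  have h0 := (bijective_coords e ⊤).comp
    (Equiv.arrowCongr (Equiv.refl J) (Equiv.ofBijective _ hb)).bijective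
  refine Eq.mp (congrArg Function.Bijective ?_) h0
  funext c
  refine Finset.sum_congr rfl fun j _ => congrArg₂ (· * ·) rfl ?_
  exact ConcreteCategory.congr_hom (F.presheaf.map_id (op ⊤)) (gen e j)

include e in
/-- An affine morphism with free direct image is the base change of its fibre at a section. -/
theorem nonempty_iso_fibre [IsAffineHom f] (hπ : IsIso π.appTop) (s : Spec k ⟶ Y) (hs : s ≫ π = 𝟙 _) :
    Nonempty (Over.mk f ≅ Over.mk (pullback.snd (pullback.snd f s) π)) := by
  haveI := isIso_lift_of_free e hπ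
  set g : Spec Γ(F, ⊤) ⟶ Spec k := Spec.map (globMap π f) with hg
  have hcomm : F.toSpecΓ ≫ g = f ≫ π := by
    rw [hg, globMap, Spec.map_comp, ← Category.assoc, ← Scheme.toSpecΓ_naturality, Category.assoc]
    simp
  set h : F ⟶ pullback g π := pullback.lift F.toSpecΓ f hcomm
  haveI : IsIso h := ‹_›
  let t : Spec Γ(F, ⊤) ⟶ pullback g π := pullback.lift (𝟙 _) (g ≫ s) (by simp [hs])
  have hW : IsPullback t g (pullback.snd g π) s := by
    refine IsPullback.of_right ?_ (pullback.lift_snd _ _ _) (IsPullback.of_hasPullback g π)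
    rw [pullback.lift_fst, hs]
    exact IsPullback.id_horiz g
  have hF : IsPullback (t ≫ inv h) g f s := by
    refine hW.of_iso (Iso.refl _) (asIso h).symm (Iso.refl _) (Iso.refl _) ?_ ?_ ?_ ?_
    · simp
    · simp
    · simp [h]
    · simp
  let i : Spec Γ(F, ⊤) ≅ pullback f s := hF.isoPullback
  have hi : i.hom ≫ pullback.snd f s = g := hF.isoPullback_hom_snd
  let m : pullback g π ≅ pullback (pullback.snd f s) π :=
    asIso (pullback.map g π (pullback.snd f s) π i.hom (𝟙 _) (𝟙 _) (by simp [hi]) (by simp))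
  refine ⟨Over.isoMk (asIso h ≪≫ m) ?_⟩
  simp [m, h]

end Groth.Agent.FinFree14
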